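import Groth.Agent.Lib.Excellent.CompletionNoetherian
import Groth.Agent.Lib.FSAdic.Completion
import Groth.Agent.Lib.Adic.Complete
import Mathlib

/-!
# Branches of a radicial local extension

For a radicial local extension `A → B` of Noetherian local rings with trivial residue extension the
minimal primes of `B̂` inject into those of `Â`, and if this is a bijection then every prime of `A` is hit.
-/

set_option autoImplicit false
universe u

open IsLocalRing TensorProduct
open Groth.Agent.Lib.FSAdic.Completion (evalₐ_eq_zero_iff exists_sub_mem)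

namespace Groth.Agent.Lib.EndoIso.Branches

set_option linter.style.haveILetI false

/-- In an algebra killed by `p`, elements have powers in the image of the base. -/
theorem exists_pow_mem {A B T : Type u} [CommRing A] [CommRing B] [CommRing T] [Algebra A B]
    [Algebra A T] (p : Ideal B) (a : Ideal A) [a.IsPrime] (hpa : ∀ x ∈ a, algebraMap A B x ∈ p)
    (e : ℕ) (he : e = 1 ∨ e.Prime ∧ (e : A) ∈ a)
    (hpi : ∀ b : B, ∃ (N : ℕ) (s : A), s ∉ a ∧ ∃ r : A,
      algebraMap A B s * b ^ e ^ N - algebraMap A B r ∈ p)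
    (d : T ⊗[A] B) :
    ∃ k : ℕ, 0 < k ∧ ∃ s : A, s ∉ a ∧ ∃ t : T,
      algebraMap A (T ⊗[A] B) s * d ^ k - t ⊗ₜ[A] 1 ∈
        p.map (Algebra.TensorProduct.includeRight : B →ₐ[A] T ⊗[A] B) := by
  set J := p.map (Algebra.TensorProduct.includeRight : B →ₐ[A] T ⊗[A] B) with hJ
  let R := (T ⊗[A] B) ⧸ J
  have hadd : ∀ (N : ℕ) (x y : R), (x + y) ^ e ^ N = x ^ e ^ N + y ^ e ^ N := by
    intro N x y
    rcases he with rfl | ⟨hq, h0⟩
    · simp
    rcases subsingleton_or_nontrivial R with hR | hR
    · exact Subsingleton.elim _ _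
    haveI := Fact.mk hq
    have h2 : (e : R) = 0 := by
      have h1 : algebraMap A B (e : A) ∈ p := hpa _ h0
      rw [map_natCast] at h1
      have h3 : (Algebra.TensorProduct.includeRight : B →ₐ[A] T ⊗[A] B) (e : B) ∈ J :=
        Ideal.mem_map_of_mem _ h1
      rw [map_natCast] at h3
      rw [← map_natCast (Ideal.Quotient.mk J), Ideal.Quotient.eq_zero_iff_mem]
      exact h3
    haveI : CharP R e := (CharP.charP_iff_prime_eq_zero hq).mpr h2
    exact add_pow_char_pow x y e N
  have hpos : 0 < e := by rcases he with rfl | ⟨hq, -⟩; exacts [one_pos, hq.pos]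
  -- the statement is closed under addition
  suffices h : ∃ N : ℕ, ∃ s : A, s ∉ a ∧ ∃ t : T, Ideal.Quotient.mk J
      (algebraMap A (T ⊗[A] B) s * d ^ e ^ N - t ⊗ₜ[A] 1) = 0 by
    obtain ⟨N, s, hs, t, ht⟩ := h
    exact ⟨e ^ N, pow_pos hpos N, s, hs, t,
      Ideal.Quotient.eq_zero_iff_mem.mp ht⟩
  have hlift : ∀ (N M : ℕ) (s : A) (t : T) (d : T ⊗[A] B),
      Ideal.Quotient.mk J (algebraMap A (T ⊗[A] B) s * d ^ e ^ N - t ⊗ₜ[A] 1) = 0 →
      Ideal.Quotient.mk J (algebraMap A (T ⊗[A] B) (s ^ e ^ M) * d ^ e ^ (N + M) -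
        (t ^ e ^ M) ⊗ₜ[A] 1) = 0 := by
    intro N M s t d h
    rw [map_sub, sub_eq_zero] at h
    rw [map_sub, sub_eq_zero, map_pow, pow_add, pow_mul, ← mul_pow, map_pow, h, ← map_pow,
      Algebra.TensorProduct.tmul_pow, one_pow]
  induction d using TensorProduct.induction_on with
  | zero => exact ⟨0, 1, fun h => Ideal.IsPrime.ne_top ‹_› (a.eq_top_iff_one.mpr h), 0, by simp⟩
  | tmul t b =>
    obtain ⟨N, s, hs', r, hmem⟩ := hpi b
    refine ⟨N, s, hs', algebraMap A T r * t ^ e ^ N, ?_⟩
    rw [Ideal.Quotient.eq_zero_iff_mem]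
    have h1 := J.mul_mem_left ((t ^ e ^ N) ⊗ₜ[A] (1 : B)) (Ideal.mem_map_of_mem
      (Algebra.TensorProduct.includeRight : B →ₐ[A] T ⊗[A] B) hmem)
    convert h1 using 1
    rw [map_sub, map_mul, map_pow, AlgHom.commutes, AlgHom.commutes,
      Algebra.TensorProduct.includeRight_apply, mul_sub]
    congr 1
    · rw [Algebra.TensorProduct.tmul_pow, Algebra.TensorProduct.tmul_pow, mul_left_comm,
        Algebra.TensorProduct.tmul_mul_tmul, one_pow, mul_one, one_mul]
    · rw [← Algebra.smul_def, ← TensorProduct.smul_tmul', Algebra.smul_def, mul_comm]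
  | add x y hx hy =>
    obtain ⟨N, s, hs, t, h⟩ := hx
    obtain ⟨N', s', hs', t', h'⟩ := hy
    refine ⟨N + N', s ^ e ^ N' * s' ^ e ^ N, fun hm => ?_,
      algebraMap A T (s' ^ e ^ N) * t ^ e ^ N' + algebraMap A T (s ^ e ^ N') * t' ^ e ^ N, ?_⟩
    · rcases Ideal.IsPrime.mem_or_mem ‹_› hm with h1 | h1
      · exact hs (Ideal.IsPrime.mem_of_pow_mem ‹_› _ h1)
      · exact hs' (Ideal.IsPrime.mem_of_pow_mem ‹_› _ h1)
    have e1 := hlift N N' s t x h
    have e2 := hlift N' N s' t' y h'
    rw [Nat.add_comm N' N] at e2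
    rw [map_sub, sub_eq_zero] at e1 e2 ⊢
    have hmul : ∀ (c : A) (w : T), (algebraMap A T c * w) ⊗ₜ[A] (1 : B) =
        algebraMap A (T ⊗[A] B) c * w ⊗ₜ[A] 1 := fun c w => by
      rw [← Algebra.smul_def, ← Algebra.smul_def, TensorProduct.smul_tmul']
    rw [map_mul, map_mul, map_pow (Ideal.Quotient.mk J) (x + y), map_add, hadd, ← map_pow, ← map_pow,
      TensorProduct.add_tmul, hmul, hmul, map_add (Ideal.Quotient.mk J)]
    simp only [map_mul] at e1 e2 ⊢
    rw [← e1, ← e2]
    ring

section Main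

open scoped Classical

variable (A B : Type u) [CommRing A] [CommRing B] [Algebra A B] [IsLocalRing A] [IsLocalRing B]

/-- The completion. -/
abbrev hat (R : Type u) [CommRing R] [IsLocalRing R] : Type u := AdicCompletion (maximalIdeal R) R

/-- The properties used of a radicial local extension at a closed point. -/
structure Radicial : Prop where
  inj : Function.Injective (PrimeSpectrum.comap (algebraMap A B))
  inj' : Function.Injective (PrimeSpectrum.comap
    (Algebra.TensorProduct.includeLeftRingHom : hat A →+* hat A ⊗[A] B))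
  pi : ∀ (p : Ideal B), p.IsPrime → ∃ e : ℕ, (e = 1 ∨ e.Prime ∧ (e : A) ∈ p.comap (algebraMap A B)) ∧
    ∀ b : B, ∃ (N : ℕ) (s : A), s ∉ p.comap (algebraMap A B) ∧ ∃ r : A,
      algebraMap A B s * b ^ e ^ N - algebraMap A B r ∈ p
  lift : ∀ (p : Ideal B) [p.IsPrime] (q : Ideal (hat A)) [q.IsPrime],
    p.comap (algebraMap A B) = q.comap (algebraMap A (hat A)) →
      ∃ Q : Ideal (hat A ⊗[A] B), Q.IsPrime ∧ Q.comap Algebra.TensorProduct.includeLeftRingHom = q ∧
        Q.comap (Algebra.TensorProduct.includeRight : B →ₐ[A] hat A ⊗[A] B) = p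
  res : ∀ b : B, ∃ a : A, b - algebraMap A B a ∈ maximalIdeal B
  min : ∀ p ∈ minimalPrimes B, p.comap (algebraMap A B) ∈ minimalPrimes A

variable {A B} [IsLocalHom (algebraMap A B)]

omit [IsLocalHom (algebraMap A B)] in
theorem exists_span_approx [IsNoetherianRing B] (H : Radicial A B) (n : ℕ) :
    ∃ G : Finset B, ∀ b : B, ∃ s ∈ Submodule.span A (G : Set B), b - s ∈ maximalIdeal B ^ n := by
  induction n with
  | zero => exact ⟨∅, fun b => ⟨0, Submodule.zero_mem _, by simp⟩⟩
  | succ n ih =>
    obtain ⟨G, hG⟩ := ih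
    obtain ⟨gs, hgs⟩ := (IsNoetherian.noetherian (maximalIdeal B))
    refine ⟨insert 1 ((gs ×ˢ G).image fun x => x.1 * x.2), fun b => ?_⟩
    obtain ⟨a, ha⟩ := H.res b
    have key : ∀ m ∈ maximalIdeal B, ∃ s ∈ Submodule.span A
        ((insert 1 ((gs ×ˢ G).image fun x => x.1 * x.2) : Finset B) : Set B),
          m - s ∈ maximalIdeal B ^ (n + 1) := by
      intro m hm
      rw [← hgs] at hm
      obtain ⟨c, hc⟩ := Submodule.mem_span_finset.mp hm
      choose t ht ht' using fun g => hG (c g)
      refine ⟨∑ g ∈ gs, g * t g, Submodule.sum_mem _ fun g hg => ?_, ?_⟩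
      · have hspan : ∀ x ∈ Submodule.span A (G : Set B), g * x ∈ Submodule.span A
            ((insert 1 ((gs ×ˢ G).image fun x => x.1 * x.2) : Finset B) : Set B) := by
          intro x hx
          induction hx using Submodule.span_induction with
          | mem x hx =>
            refine Submodule.subset_span ?_
            simp only [Finset.coe_insert, Finset.coe_image, Set.mem_insert_iff, Set.mem_image]
            exact Or.inr ⟨(g, x), Finset.mem_coe.mpr (Finset.mem_product.mpr ⟨hg, hx⟩), rfl⟩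
          | zero => simp
          | add x y _ _ hx hy => rw [mul_add]; exact Submodule.add_mem _ hx hy
          | smul r x _ hx => rw [mul_smul_comm]; exact Submodule.smul_mem _ r hx
        exact hspan _ (ht g)
      · rw [← hc.2, ← Finset.sum_sub_distrib]
        refine Ideal.sum_mem _ fun g hg => ?_
        rw [smul_eq_mul, mul_comm (c g), ← mul_sub, pow_succ']
        exact Ideal.mul_mem_mul (hgs ▸ Submodule.subset_span hg) (ht' g)
    obtain ⟨s, hs, hs'⟩ := key _ ha
    refine ⟨algebraMap A B a + s, Submodule.add_mem _ ?_ hs, by rwa [← sub_sub]⟩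
    rw [Algebra.algebraMap_eq_smul_one]
    exact Submodule.smul_mem _ _ (Submodule.subset_span (by simp))

theorem exists_pow_le [IsNoetherianRing B] (H : Radicial A B) :
    ∃ N : ℕ, maximalIdeal B ^ N ≤ (maximalIdeal A).map (algebraMap A B) := by
  refine Ideal.exists_pow_le_of_le_radical_of_fg ?_ (IsNoetherian.noetherian _)
  rw [Ideal.radical_eq_sInf]
  refine le_sInf fun J ⟨hJ, hJp⟩ => ?_
  have : (⟨J, hJp⟩ : PrimeSpectrum B) = ⟨maximalIdeal B, inferInstance⟩ := H.inj <| by
    ext1
    simp only [PrimeSpectrum.comap_asIdeal]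
    rw [IsLocalRing.maximalIdeal_comap]
    refine le_antisymm (IsLocalRing.le_maximalIdeal (hJp.comap (algebraMap A B)).ne_top) ?_
    exact Ideal.map_le_iff_le_comap.mp hJ
  exact le_of_eq (congrArg PrimeSpectrum.asIdeal this).symm

theorem map_pow_le (n : ℕ) :
    (maximalIdeal A ^ n).map (algebraMap A B) ≤ maximalIdeal B ^ n := by
  rw [Ideal.map_pow]
  exact Ideal.pow_right_mono (((IsLocalRing.local_hom_TFAE (algebraMap A B)).out 0 2).mp ‹_›) n

variable (A B) in
/-- The maps to the truncations. -/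
noncomputable def trunc (n : ℕ) : hat A →+* B ⧸ maximalIdeal B ^ n :=
  (Ideal.quotientMap _ (algebraMap A B) (Ideal.map_le_iff_le_comap.mp (map_pow_le n))).comp
    (AdicCompletion.evalₐ (maximalIdeal A) n).toRingHom

theorem exists_theta [IsNoetherianRing A] :
    ∃ θ : hat A →ₐ[A] hat B, ∀ (n : ℕ) (x : hat A),
      AdicCompletion.evalₐ (maximalIdeal B) n (θ x) = trunc A B n x := by
  have hf : ∀ {m n : ℕ} (hle : m ≤ n),
      (Ideal.Quotient.factorPow (maximalIdeal B) hle).comp (trunc A B n) = trunc A B m := by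
    intro m n hle
    ext x
    obtain ⟨a, ha⟩ := exists_sub_mem (IsNoetherian.noetherian (maximalIdeal A)) n x
    have e1 := (evalₐ_eq_zero_iff (IsNoetherian.noetherian (maximalIdeal A)) n _).mpr ha
    have e2 := (evalₐ_eq_zero_iff (IsNoetherian.noetherian (maximalIdeal A)) m _).mpr
      (Ideal.pow_le_pow_right hle ha)
    rw [map_sub, sub_eq_zero, AlgHom.commutes] at e1 e2
    simp only [RingHom.comp_apply, trunc, AlgHom.toRingHom_eq_coe, RingHom.coe_coe, e1, e2]
    rfl
  let θ := AdicCompletion.liftRingHom (maximalIdeal B) (trunc A B) hf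
  refine ⟨{ θ with commutes' := fun a => ?_ }, fun n x =>
    AdicCompletion.evalₐ_liftRingHom _ _ hf n x⟩
  refine AdicCompletion.ext_evalₐ fun n => ?_
  show AdicCompletion.evalₐ (maximalIdeal B) n (θ (algebraMap A (hat A) a)) = _
  rw [AdicCompletion.evalₐ_liftRingHom, IsScalarTower.algebraMap_apply A B (hat B), AlgHom.commutes]
  simp only [trunc, RingHom.comp_apply, AlgHom.toRingHom_eq_coe, RingHom.coe_coe, AlgHom.commutes]
  rfl

theorem minimalPrimes_comap_of_flat {R S : Type u} [CommRing R] [CommRing S] [Algebra R S]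
    [Module.Flat R S] {P : Ideal S} (hP : P ∈ minimalPrimes S) :
    P.comap (algebraMap R S) ∈ minimalPrimes R := by
  haveI := hP.1.1
  refine ⟨⟨inferInstance, bot_le⟩, fun r hr hle => ?_⟩
  haveI := hr.1
  haveI : P.LiesOver (P.comap (algebraMap R S)) := ⟨rfl⟩
  obtain ⟨Q, hQ, hQp, hQr⟩ := Ideal.exists_ideal_le_liesOver_of_le (p := r) P hle
  have : Q = P := le_antisymm hQ (hP.2 ⟨hQp, bot_le⟩ hQ)
  rw [← this, ← Ideal.under_def, ← hQr.over]

variable [IsNoetherianRing A] [IsNoetherianRing B] [Algebra.EssFiniteType A B]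

theorem injection (H : Radicial A B) :
    ∃ θ : hat A →ₐ[A] hat B, θ.toRingHom.IsIntegral ∧
      (∀ P ∈ minimalPrimes (hat B), P.comap θ.toRingHom ∈ minimalPrimes (hat A)) ∧
      Function.Injective (PrimeSpectrum.comap θ.toRingHom) := by
  obtain ⟨θ, hθ⟩ := exists_theta (A := A) (B := B)
  let Ψ : hat A ⊗[A] B →ₐ[A] hat B :=
    Algebra.TensorProduct.lift θ (IsScalarTower.toAlgHom A B (hat B)) fun _ _ => Commute.all _ _
  have hΨl : ∀ x : hat A, Ψ (x ⊗ₜ 1) = θ x := fun x => by simp [Ψ]
  have hΨr : ∀ b : B, Ψ (1 ⊗ₜ b) = algebraMap B (hat B) b := fun b => by simp [Ψ]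
  have fgA : (maximalIdeal A).FG := IsNoetherian.noetherian _
  have fgB : (maximalIdeal B).FG := IsNoetherian.noetherian _
  -- finiteness
  letI := θ.toRingHom.toAlgebra
  haveI : IsScalarTower A (hat A) (hat B) := IsScalarTower.of_algebraMap_eq fun a => (θ.commutes a).symm
  obtain ⟨N, hN⟩ := exists_pow_le H
  obtain ⟨G, hG⟩ := exists_span_approx H N
  have hmax : (maximalIdeal (hat A)).map (algebraMap (hat A) (hat B)) =
      ((maximalIdeal A).map (algebraMap A B)).map (algebraMap B (hat B)) := by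
    rw [AdicCompletion.maximalIdeal_eq_map, Ideal.map_map, Ideal.map_map, ← IsScalarTower.algebraMap_eq,
      ← IsScalarTower.algebraMap_eq]
  let l : (↥G → hat A) →ₗ[hat A] hat B :=
    Fintype.linearCombination (hat A) fun g : ↥G => algebraMap B (hat B) g.1
  haveI : IsHausdorff (maximalIdeal (hat A)) (hat B) := by
    rw [← IsHausdorff.map_algebraMap_iff (S := hat B)]
    have hle : (maximalIdeal (hat A)).map (algebraMap (hat A) (hat B)) ≤ maximalIdeal (hat B) := by
      rw [hmax, AdicCompletion.maximalIdeal_eq_map]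
      exact Ideal.map_mono (((IsLocalRing.local_hom_TFAE (algebraMap A B)).out 0 2).mp ‹_›)
    haveI := Excellent.CompletionNoetherian.isNoetherianRing_adicCompletion (maximalIdeal B)
    exact IsHausdorff.of_le_jacobson _ _ (hle.trans (IsLocalRing.maximalIdeal_le_jacobson _))
  haveI : IsPrecomplete (maximalIdeal (hat A)) (↥G → hat A) :=
    Adic.Complete.isPrecomplete_pi _
  have hl : Function.Surjective l := by
    refine surjective_of_mkQ_comp_surjective (I := maximalIdeal (hat A)) fun y => ?_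
    obtain ⟨y, rfl⟩ := Submodule.Quotient.mk_surjective _ y
    obtain ⟨b, hb⟩ := exists_sub_mem fgB N y
    obtain ⟨s, hs, hs'⟩ := hG b
    obtain ⟨c, hc⟩ := Submodule.mem_span_finset.mp hs
    refine ⟨fun g => algebraMap A (hat A) (c g.1), ?_⟩
    rw [LinearMap.comp_apply, Submodule.mkQ_apply, Submodule.Quotient.eq, Ideal.smul_top_eq_map,
      Submodule.restrictScalars_mem, hmax]
    have hsum : l (fun g => algebraMap A (hat A) (c g.1)) = algebraMap B (hat B) s := by
      rw [Fintype.linearCombination_apply, ← hc.2, map_sum, ← Finset.sum_coe_sort G]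
      refine Finset.sum_congr rfl fun g _ => ?_
      rw [Algebra.smul_def (A := hat B), Algebra.smul_def (A := B), map_mul, ← IsScalarTower.algebraMap_apply, ← IsScalarTower.algebraMap_apply]
    rw [hsum, ← neg_sub, ← sub_add_sub_cancel y (algebraMap B (hat B) b), ← map_sub]
    refine neg_mem (add_mem ?_ (Ideal.mem_map_of_mem _ (hN hs')))
    rw [← Ideal.map_pow] at hb
    exact Ideal.map_mono hN hb
  have hfin : θ.toRingHom.Finite := Module.Finite.of_surjective l hl
  have hsurj : Function.Surjective Ψ := fun y => by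
    obtain ⟨v, rfl⟩ := hl y
    refine ⟨∑ g, v g ⊗ₜ g.1, ?_⟩
    rw [map_sum, Fintype.linearCombination_apply]
    refine Finset.sum_congr rfl fun g _ => ?_
    rw [Algebra.smul_def, Algebra.TensorProduct.lift_tmul]
    rfl
  refine ⟨θ, hfin.to_isIntegral, fun P hP => ?_, ?_⟩
  · haveI := hP.1.1
    haveI := Excellent.CompletionNoetherian.isNoetherianRing_adicCompletion (maximalIdeal A)
    haveI : Algebra.EssFiniteType (hat A) (hat A ⊗[A] B) := inferInstance
    haveI : IsNoetherianRing (hat A ⊗[A] B) := Algebra.EssFiniteType.isNoetherianRing (hat A) _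
    let p := P.comap (algebraMap B (hat B))
    have hp : p ∈ minimalPrimes B := minimalPrimes_comap_of_flat hP
    haveI : (p.comap (algebraMap A B)).IsPrime := inferInstance
    set a := p.comap (algebraMap A B) with ha
    let Q := P.comap Ψ.toRingHom
    let q := P.comap θ.toRingHom
    refine ⟨⟨inferInstance, bot_le⟩, fun q' hq' hle => ?_⟩
    haveI := hq'.1
    have hqa : q.comap (algebraMap A (hat A)) = a := by
      simp only [q, a, p, Ideal.comap_comap]
      congr 1
      exact RingHom.ext fun x => (θ.commutes x).trans (IsScalarTower.algebraMap_apply A B (hat B) x)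
    have hq'a : q'.comap (algebraMap A (hat A)) = a := by
      refine le_antisymm ((Ideal.comap_mono hle).trans hqa.le) ((H.min p hp).2 ⟨inferInstance, bot_le⟩ ?_)
      exact (Ideal.comap_mono hle).trans hqa.le
    obtain ⟨Q', hQ', hQ'l, hQ'r⟩ := H.lift p q' hq'a.symm
    obtain ⟨e, he, hpi⟩ := H.pi p inferInstance
    have hQQ : Q' ≤ Q := by
      intro d hd
      obtain ⟨k, hk, s, hs, t, ht⟩ := exists_pow_mem (T := hat A) p a (fun x hx => hx) e he hpi d
      have hJ : ∀ (I : Ideal (hat A ⊗[A] B)),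
          I.comap (Algebra.TensorProduct.includeRight : B →ₐ[A] hat A ⊗[A] B) = p →
            algebraMap A (hat A ⊗[A] B) s * d ^ k - t ⊗ₜ[A] 1 ∈ I := fun I hI =>
        Ideal.map_le_iff_le_comap.mpr hI.ge ht
      have hQr : Q.comap (Algebra.TensorProduct.includeRight : B →ₐ[A] hat A ⊗[A] B) = p := by
        ext b
        show Ψ (1 ⊗ₜ b) ∈ P ↔ _
        rw [hΨr]
        rfl
      have ht' : t ∈ q' := by
        rw [← hQ'l]
        show t ⊗ₜ[A] (1 : B) ∈ Q'
        have h1 := Q'.sub_mem (Q'.mul_mem_left (algebraMap A _ s) (Q'.pow_mem_of_mem hd k hk))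
          (hJ Q' hQ'r)
        rwa [sub_sub_cancel] at h1
      have h2 : algebraMap A (hat A ⊗[A] B) s * d ^ k ∈ Q := by
        have h3 : t ⊗ₜ[A] (1 : B) ∈ Q := by
          show Ψ (t ⊗ₜ 1) ∈ P
          rw [hΨl]
          exact hle ht'
        simpa using Q.add_mem (hJ Q hQr) h3
      rcases (inferInstance : Q.IsPrime).mem_or_mem h2 with h | h
      · refine absurd ?_ hs
        have h4 : Ψ (algebraMap A _ s) ∈ P := h
        rw [AlgHom.commutes, IsScalarTower.algebraMap_apply A B (hat B)] at h4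
        exact h4
      · exact (inferInstance : Q.IsPrime).mem_of_pow_mem k h
    -- the kernel of `Ψ` is in `Q'`
    have hker : RingHom.ker Ψ.toRingHom ≤ Q' := by
      intro d hd
      set J := (maximalIdeal B).map (Algebra.TensorProduct.includeRight : B →ₐ[A] hat A ⊗[A] B) with hJ
      have hJA : ∀ n, ((maximalIdeal A ^ n).map (algebraMap A (hat A ⊗[A] B))) ≤ J ^ n := by
        intro n
        rw [hJ, ← Ideal.map_pow, ← (Algebra.TensorProduct.includeRight (R := A) (A := hat A) (B := B)).comp_algebraMap,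
          ← Ideal.map_map]
        exact Ideal.map_mono (map_pow_le n)
      have happ : ∀ (n : ℕ) (x : hat A ⊗[A] B), ∃ b : B, x - 1 ⊗ₜ b ∈ J ^ n := by
        intro n x
        induction x using TensorProduct.induction_on with
        | zero => exact ⟨0, by simp⟩
        | tmul t b =>
          obtain ⟨a₀, ha₀⟩ := exists_sub_mem fgA n t
          refine ⟨algebraMap A B a₀ * b, ?_⟩
          rw [← Ideal.map_pow] at ha₀
          have h1 := Ideal.mem_map_of_mem
            (Algebra.TensorProduct.includeLeft : hat A →ₐ[A] hat A ⊗[A] B).toRingHom ha₀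
          rw [Ideal.map_map, AlgHom.toRingHom_eq_coe, AlgHom.comp_algebraMap] at h1
          have h2 := (J ^ n).mul_mem_right ((1 : hat A) ⊗ₜ[A] b) (hJA n h1)
          convert h2 using 1
          simp only [AlgHom.toRingHom_eq_coe, RingHom.coe_coe, Algebra.TensorProduct.includeLeft_apply,
            TensorProduct.sub_tmul, sub_mul, Algebra.TensorProduct.tmul_mul_tmul, mul_one, one_mul]
          rw [← Algebra.smul_def a₀ b, TensorProduct.tmul_smul, TensorProduct.smul_tmul',
            Algebra.smul_def, mul_one]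
        | add x y hx hy =>
          obtain ⟨b, hb⟩ := hx
          obtain ⟨b', hb'⟩ := hy
          refine ⟨b + b', ?_⟩
          rw [TensorProduct.tmul_add]
          convert (J ^ n).add_mem hb hb' using 1
          abel
      have hΨJ : J.map Ψ.toRingHom ≤ (maximalIdeal B).map (algebraMap B (hat B)) := by
        rw [hJ, Ideal.map_le_iff_le_comap, Ideal.map_le_iff_le_comap]
        intro b hb
        rw [Ideal.mem_comap, Ideal.mem_comap, Algebra.TensorProduct.includeRight_apply]
        rw [AlgHom.toRingHom_eq_coe, RingHom.coe_coe, hΨr]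
        exact Ideal.mem_map_of_mem _ hb
      have hn : ∀ n, d ∈ J ^ n := fun n => by
        obtain ⟨b, hb⟩ := happ n d
        have h1 := Ideal.pow_right_mono hΨJ n (Ideal.map_pow Ψ.toRingHom J n ▸ Ideal.mem_map_of_mem _ hb)
        have hd0 : Ψ d = 0 := hd
        change Ψ (d - 1 ⊗ₜ b) ∈ _ at h1
        rw [map_sub, hd0, hΨr, zero_sub, neg_mem_iff, ← evalₐ_eq_zero_iff fgB, AlgHom.commutes,
          Ideal.Quotient.algebraMap_eq, Ideal.Quotient.eq_zero_iff_mem] at h1
        have h2 := Ideal.mem_map_of_mem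
          (Algebra.TensorProduct.includeRight : B →ₐ[A] hat A ⊗[A] B) h1
        rw [Ideal.map_pow] at h2
        simpa using (J ^ n).add_mem hb h2
      obtain ⟨r, hr⟩ := (Ideal.mem_iInf_smul_pow_eq_bot_iff J d).mp (by
        simp only [Submodule.mem_iInf, smul_eq_mul, Ideal.mul_top]
        exact hn)
      have h0 : ((1 : hat A ⊗[A] B) - r.1) * d ∈ Q' := by
        rw [sub_mul, one_mul, ← smul_eq_mul r.1, hr, sub_self]
        exact Q'.zero_mem
      refine (hQ'.mem_or_mem h0).resolve_left fun h => ?_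
      have h3 : Ψ (1 - r.1) ∈ P := hQQ h
      have h4 : Ψ r.1 ∈ maximalIdeal (hat B) := by
        rw [AdicCompletion.maximalIdeal_eq_map]
        exact hΨJ (Ideal.mem_map_of_mem _ r.2)
      refine (maximalIdeal.isMaximal (hat B)).ne_top ((Ideal.eq_top_iff_one _).mpr ?_)
      rw [map_sub, map_one] at h3
      simpa using Ideal.add_mem _ (IsLocalRing.le_maximalIdeal hP.1.1.ne_top h3) h4
    have hP' : (Q'.map Ψ.toRingHom).IsPrime := Ideal.map_isPrime_of_surjective hsurj hker
    have hPe : Q'.map Ψ.toRingHom = P :=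
      le_antisymm (Ideal.map_le_iff_le_comap.mpr hQQ) (hP.2 ⟨hP', bot_le⟩ (Ideal.map_le_iff_le_comap.mpr hQQ))
    intro t ht
    have : (t ⊗ₜ[A] (1 : B)) ∈ Q' := by
      have h1 : Q = Q' := by
        show P.comap Ψ.toRingHom = Q'
        rw [← hPe, Ideal.comap_map_of_surjective Ψ.toRingHom hsurj, sup_eq_left]
        exact hker
      rw [← h1]
      show Ψ (t ⊗ₜ 1) ∈ P
      rw [hΨl]
      exact ht
    rw [← hQ'l]
    exact this
  · intro P P' h
    refine PrimeSpectrum.comap_injective_of_surjective Ψ.toRingHom hsurj (H.inj' ?_)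
    have hc : θ.toRingHom = Ψ.toRingHom.comp Algebra.TensorProduct.includeLeftRingHom :=
      RingHom.ext fun x => (hΨl x).symm
    rw [hc, PrimeSpectrum.comap_comp] at h
    exact h

omit [IsLocalHom (algebraMap A B)] [Algebra.EssFiniteType A B] in
theorem finite_minimalPrimes_hat : (minimalPrimes (hat A)).Finite :=
  haveI := Excellent.CompletionNoetherian.isNoetherianRing_adicCompletion (maximalIdeal A)
  minimalPrimes.finite_of_isNoetherianRing _

/-- The number of branches does not decrease. -/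
theorem ncard_le (H : Radicial A B) :
    (minimalPrimes (hat B)).ncard ≤ (minimalPrimes (hat A)).ncard := by
  obtain ⟨θ, -, h1, h2⟩ := injection H
  refine Set.ncard_le_ncard_of_injOn (fun P => P.comap θ.toRingHom) h1 (fun P hP P' hP' h => ?_)
    finite_minimalPrimes_hat
  exact congrArg PrimeSpectrum.asIdeal (@h2 ⟨P, hP.1.1⟩ ⟨P', hP'.1.1⟩ (PrimeSpectrum.ext h))

/-- If no branch is lost then every prime is hit. -/
theorem comap_surjective (H : Radicial A B)
    (hle : (minimalPrimes (hat A)).ncard ≤ (minimalPrimes (hat B)).ncard) :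
    Function.Surjective (PrimeSpectrum.comap (algebraMap A B)) := by
  obtain ⟨θ, hi, h1, h2⟩ := injection H
  intro r
  haveI : Module.FaithfullyFlat A (hat A) := by
    haveI : IsLocalHom (algebraMap A (hat A)) := inferInstance
    exact Module.FaithfullyFlat.of_flat_of_isLocalHom
  obtain ⟨r', hr'⟩ := PrimeSpectrum.comap_surjective_of_faithfullyFlat (B := hat A) r
  obtain ⟨q, hq, hqr⟩ := Ideal.exists_minimalPrimes_le (bot_le : ⊥ ≤ r'.asIdeal)
  have himg : (fun P => P.comap θ.toRingHom) '' minimalPrimes (hat B) = minimalPrimes (hat A) := by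
    refine Set.eq_of_subset_of_ncard_le (Set.image_subset_iff.mpr h1) ?_ finite_minimalPrimes_hat
    rwa [Set.ncard_image_of_injOn fun P hP P' hP' h =>
      congrArg PrimeSpectrum.asIdeal (@h2 ⟨P, hP.1.1⟩ ⟨P', hP'.1.1⟩ (PrimeSpectrum.ext h))]
  obtain ⟨P, hP, hPq⟩ := himg.ge hq
  haveI := hP.1.1
  letI := θ.toRingHom.toAlgebra
  haveI : Algebra.IsIntegral (hat A) (hat B) := ⟨hi⟩
  obtain ⟨R, hPR, hR, hRr⟩ := Ideal.exists_ideal_over_prime_of_isIntegral r'.asIdeal P (hPq.le.trans hqr)
  refine ⟨PrimeSpectrum.comap (algebraMap B (hat B)) ⟨R, hR⟩, ?_⟩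
  rw [← hr']
  ext1
  simp only [PrimeSpectrum.comap_asIdeal, ← hRr, Ideal.comap_comap, RingHom.algebraMap_toAlgebra]
  congr 1
  exact RingHom.ext fun x => ((θ.commutes x).trans (IsScalarTower.algebraMap_apply A B (hat B) x)).symm

end Main

end Groth.Agent.Lib.EndoIso.Branches
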