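import Groth.Agent.Lib.EndoIso.Branches
import Groth.Agent.Lib.EndoIso.Descend
import Groth.Agent.Lib.Lim.AffineSpaceClosed
import Mathlib

/-!
# A radicial endomorphism of a scheme of finite presentation is a finite bijection
-/

set_option autoImplicit false
universe u

open CategoryTheory CategoryTheory.Limits AlgebraicGeometry IsLocalRing TensorProduct

namespace Groth.Agent.Lib.EndoIso

set_option linter.style.haveILetI false

open Branches

theorem universallyInjective_of_comp {X Y Z : Scheme.{u}} (f : X ⟶ Y) (g : Y ⟶ Z)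
    [UniversallyInjective (f ≫ g)] : UniversallyInjective f := by
  have h := ((tfae_universallyInjective (f ≫ g)).out 0 1).mp ‹_›
  suffices h1 : ∀ (K : Type u) [Field K], Function.Injective (fun k : Spec (.of K) ⟶ X ↦ k ≫ f) from
    ((tfae_universallyInjective f).out 0 1).mpr h1
  intro K _ a b hab
  refine h K ?_
  simp only at hab ⊢
  rw [← Category.assoc, hab, Category.assoc]

theorem radicial {A B : Type u} [CommRing A] [CommRing B] [Algebra A B] [IsLocalRing A] [IsLocalRing B]
    [UniversallyInjective (Spec.map (CommRingCat.ofHom (algebraMap A B)))]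
    (hres : ∀ b : B, ∃ a : A, b - algebraMap A B a ∈ maximalIdeal B)
    (hmin : ∀ p ∈ minimalPrimes B, p.comap (algebraMap A B) ∈ minimalPrimes A) :
    Radicial A B := by
  have sq := isPullback_SpecMap_of_isPushout _ _ _ _ (CommRingCat.isPushout_tensorProduct A (hat A) B)
  have hUI : UniversallyInjective (Spec.map (CommRingCat.ofHom
      (Algebra.TensorProduct.includeLeftRingHom : hat A →+* hat A ⊗[A] B))) :=
    MorphismProperty.of_isPullback (P := @UniversallyInjective) sq.flip ‹_›
  refine ⟨(Spec.map (CommRingCat.ofHom (algebraMap A B))).injective, @Scheme.Hom.injective _ _ _ hUI, ?_, ?_, hres, hmin⟩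
  · intro p hp
    let a := p.comap (algebraMap A B)
    let iota : a.ResidueField →+* p.ResidueField := Ideal.ResidueField.map a p (algebraMap A B) rfl
    letI := iota.toAlgebra
    have hι : ∀ x : A, iota (algebraMap A a.ResidueField x) =
        algebraMap B p.ResidueField (algebraMap A B x) := fun x => by simp [iota]
    haveI : IsPurelyInseparable a.ResidueField p.ResidueField := by
      rw [isPurelyInseparable_iff_subsingleton_emb]
      refine ⟨fun σ₁ σ₂ => AlgHom.coe_ringHom_injective (Ideal.ResidueField.ringHom_ext ?_)⟩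
      have h := ((tfae_universallyInjective (Spec.map (CommRingCat.ofHom (algebraMap A B)))).out 0 1).mp ‹_›
      have hx : ∀ σ : p.ResidueField →ₐ[a.ResidueField] AlgebraicClosure p.ResidueField, ∀ x : A,
          σ (algebraMap B p.ResidueField (algebraMap A B x)) =
            algebraMap a.ResidueField _ (algebraMap A a.ResidueField x) := fun σ x => by
        rw [← hι]
        exact σ.commutes _
      have h1 := h _ (a₁ := Spec.map (CommRingCat.ofHom (σ₁.toRingHom.comp (algebraMap B p.ResidueField))))
        (a₂ := Spec.map (CommRingCat.ofHom (σ₂.toRingHom.comp (algebraMap B p.ResidueField)))) (by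
          simp only [← Spec.map_comp]
          congr 1
          ext x
          exact (hx σ₁ x).trans (hx σ₂ x).symm)
      exact congrArg CommRingCat.Hom.hom (Spec.map_injective h1)
    obtain ⟨e, he⟩ := ExpChar.exists a.ResidueField
    haveI := he
    refine ⟨e, ?_, fun b => ?_⟩
    · cases he with
      | zero => exact Or.inl rfl
      | prime hq =>
        refine Or.inr ⟨hq, ?_⟩
        show (e : A) ∈ a
        rw [← Ideal.algebraMap_residueField_eq_zero, map_natCast]
        exact CharP.cast_eq_zero _ _
    obtain ⟨N, y, hy⟩ := IsPurelyInseparable.pow_mem a.ResidueField e (algebraMap B p.ResidueField b)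
    obtain ⟨r, s, hs, hrs⟩ := IsFractionRing.div_surjective (A := A ⧸ a) y
    obtain ⟨r, rfl⟩ := Ideal.Quotient.mk_surjective r
    obtain ⟨s, rfl⟩ := Ideal.Quotient.mk_surjective s
    have hs' : s ∉ a := fun h => by
      simp [Ideal.Quotient.eq_zero_iff_mem.mpr h] at hs
    refine ⟨N, s, hs', r, ?_⟩
    have hs0 : algebraMap A a.ResidueField s ≠ 0 :=
      fun h => hs' (Ideal.algebraMap_residueField_eq_zero.mp h)
    have hy' : iota y = algebraMap B p.ResidueField b ^ e ^ N := hy
    have hy2 : algebraMap A a.ResidueField s * y = algebraMap A a.ResidueField r := by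
      rw [← hrs]
      show algebraMap A a.ResidueField s *
        (algebraMap A a.ResidueField r / algebraMap A a.ResidueField s) = _
      field_simp
    rw [← Ideal.algebraMap_residueField_eq_zero, map_sub, map_mul, map_pow, ← hy', ← hι, ← hι,
      ← map_mul, hy2, sub_self]
  · intro p _ q _ h
    obtain ⟨Q, hQl, hQr⟩ := Scheme.exists_preimage_of_isPullback sq ⟨q, ‹_›⟩ ⟨p, ‹_›⟩ (by
      apply PrimeSpectrum.ext
      exact h.symm)
    exact ⟨Q.asIdeal, Q.2, congrArg PrimeSpectrum.asIdeal hQl, congrArg PrimeSpectrum.asIdeal hQr⟩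

variable {X : Scheme.{u}} (f : X ⟶ Spec (CommRingCat.of (ULift.{u} ℤ)))
  [LocallyOfFiniteType f] [QuasiCompact f] (g : X ⟶ X) [LocallyOfFiniteType g] [QuasiCompact g]
  [LocallyOfFinitePresentation g] [UniversallyInjective g]

omit [QuasiCompact g] [LocallyOfFinitePresentation g] in
include f in
theorem residueFieldMap_bijective (x : X) (hx : IsClosed ({x} : Set X)) :
    Function.Bijective (g.residueFieldMap x).hom := by
  haveI := jacobsonSpace f
  have h3 : Function.Injective g ∧ ∀ x, (g.residueFieldMap x).hom.IsPurelyInseparable :=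
    ((tfae_universallyInjective g).out 0 2).mp ‹_›
  have h := h3.2 x
  haveI := Zeta.ArithScheme.finite_residueField f hx
  haveI := Zeta.ArithScheme.finite_residueField f (g.closePoints_subset_preimage_closedPoints hx)
  algebraize [(g.residueFieldMap x).hom]
  haveI : IsPurelyInseparable (X.residueField (g x)) (X.residueField x) := h
  haveI : Algebra.IsAlgebraic (X.residueField (g x)) (X.residueField x) :=
    Algebra.IsAlgebraic.of_finite _ _
  exact ⟨RingHom.injective _, IsPurelyInseparable.surjective_algebraMap_of_isSeparable _ _⟩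

include f in
theorem bijective : Function.Bijective g :=
  ⟨g.injective, surjective f g g.injective fun x hx => residueFieldMap_bijective f g x hx⟩

/-- Maximal points. -/
def maxPts (X : Scheme.{u}) : Set X := {x | ∀ z, z ⤳ x → z = x}

include f in
theorem finite_maxPts : (maxPts X).Finite := by
  haveI := isLocallyNoetherian f
  haveI : CompactSpace X := QuasiCompact.compactSpace_of_compactSpace f
  haveI : IsNoetherian X := {}
  have hc : ∀ x ∈ maxPts X, closure ({x} : Set X) ∈ irreducibleComponents X := by
    intro x hx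
    refine ⟨isIrreducible_singleton.closure, fun t ht hle => ?_⟩
    obtain ⟨z, hz⟩ := QuasiSober.sober ht.closure isClosed_closure
    have hzx : z ⤳ x := specializes_iff_mem_closure.mpr
      (hz.def.symm ▸ subset_closure (hle (subset_closure rfl)))
    obtain rfl := hx z hzx
    exact subset_closure.trans hz.def.ge
  refine Set.Finite.of_finite_image (f := fun x => closure ({x} : Set X))
    (TopologicalSpace.NoetherianSpace.finite_irreducibleComponents.subset
      (Set.image_subset_iff.mpr hc)) fun x _ y _ h => ?_
  exact (specializes_iff_closure_subset.mpr h.ge).antisymm (specializes_iff_closure_subset.mpr h.le) |>.eq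

include f in
theorem mapsTo_maxPts : ∀ x ∈ maxPts X, g x ∈ maxPts X := by
  have hb := bijective f g
  have h : ∀ η ∈ maxPts X, ∀ ζ, g ζ = η → ζ ∈ maxPts X := fun η hη ζ hζ z hz => by
    refine hb.1 ?_
    rw [hζ]
    exact hη _ (hζ ▸ hz.map g.continuous)
  intro x hx
  let e := Equiv.ofBijective _ hb
  have hsub : e.symm '' maxPts X ⊆ maxPts X := by
    rintro _ ⟨η, hη, rfl⟩
    exact h η hη _ (e.apply_symm_apply η)
  have heq : e.symm '' maxPts X = maxPts X :=
    Set.eq_of_subset_of_ncard_le hsub (Set.InjOn.ncard_image e.symm.injective.injOn).ge (finite_maxPts f)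
  rw [← heq] at hx
  obtain ⟨η, hη, rfl⟩ := hx
  show e (e.symm η) ∈ maxPts X
  rw [e.apply_symm_apply]
  exact hη

omit [LocallyOfFiniteType g] [QuasiCompact g] [LocallyOfFinitePresentation g] in
theorem universallyInjective_stalkMap (x : X) : UniversallyInjective (Spec.map (g.stalkMap x)) := by
  haveI : UniversallyInjective (Spec.map (g.stalkMap x) ≫ X.fromSpecStalk (g x)) := by
    rw [Scheme.SpecMap_stalkMap_fromSpecStalk]
    exact MorphismProperty.comp_mem @UniversallyInjective _ _ (inferInstance : UniversallyInjective (X.fromSpecStalk x)) ‹UniversallyInjective g›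
  exact universallyInjective_of_comp _ (X.fromSpecStalk (g x))

include f in
theorem radicial_stalk (x : X) (hx : IsClosed ({x} : Set X)) :
    letI := (g.stalkMap x).hom.toAlgebra
    Radicial (X.presheaf.stalk (g x)) (X.presheaf.stalk x) := by
  letI := (g.stalkMap x).hom.toAlgebra
  haveI : UniversallyInjective (Spec.map (CommRingCat.ofHom
      (algebraMap (X.presheaf.stalk (g x)) (X.presheaf.stalk x)))) :=
    universallyInjective_stalkMap g x
  refine radicial (fun b => ?_) fun p hp => ?_
  · obtain ⟨c, hc⟩ := (residueFieldMap_bijective f g x hx).2 ((X.residue x).hom b)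
    obtain ⟨c, rfl⟩ := X.residue_surjective (g x) c
    refine ⟨c, ?_⟩
    rw [← Ideal.Quotient.eq]
    exact hc.symm
  · haveI := hp.1.1
    have hmax : X.fromSpecStalk x ⟨p, inferInstance⟩ ∈ maxPts X := by
      intro z hz
      have hzr : z ∈ Set.range (X.fromSpecStalk x) := by
        rw [Scheme.range_fromSpecStalk]
        refine hz.trans ?_
        have : X.fromSpecStalk x ⟨p, inferInstance⟩ ∈ Set.range (X.fromSpecStalk x) := ⟨_, rfl⟩
        rw [Scheme.range_fromSpecStalk] at this
        exact this
      obtain ⟨w, rfl⟩ := hzr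
      have hw := ((X.fromSpecStalk x).isEmbedding.specializes_iff).mp hz
      congr 1
      apply PrimeSpectrum.ext
      have hle : w.asIdeal ≤ p := (PrimeSpectrum.le_iff_specializes _ _).mpr hw
      exact le_antisymm hle (hp.2 ⟨w.2, bot_le⟩ hle)
    refine ⟨⟨inferInstance, bot_le⟩, fun r hr hle => ?_⟩
    have h1 := mapsTo_maxPts f g _ hmax
    rw [← Scheme.Hom.comp_apply, ← Scheme.SpecMap_stalkMap_fromSpecStalk, Scheme.Hom.comp_apply] at h1
    have h2 := (X.fromSpecStalk (g x)).isEmbedding.injective (h1 (X.fromSpecStalk (g x) ⟨r, hr.1⟩)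
      (Specializes.map ((PrimeSpectrum.le_iff_specializes _ _).mp hle) (X.fromSpecStalk (g x)).continuous))
    exact (congrArg PrimeSpectrum.asIdeal h2).ge

include f in
/-- Every generalization of the image of a closed point lifts. -/
theorem exists_generalization (x : X) (hx : IsClosed ({x} : Set X)) (η : X) (hη : η ⤳ g x) :
    ∃ x', x' ⤳ x ∧ g x' = η := by
  haveI := jacobsonSpace f
  haveI := isLocallyNoetherian f
  -- branch numbers
  let N : X → ℕ := fun z => (minimalPrimes (hat (X.presheaf.stalk z))).ncard
  have hN : ∀ z : X, IsClosed ({z} : Set X) → N z ≤ N (g z) := fun z hz => by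
    letI := (g.stalkMap z).hom.toAlgebra
    haveI : IsLocalHom (algebraMap (X.presheaf.stalk (g z)) (X.presheaf.stalk z)) :=
      inferInstanceAs <| IsLocalHom (g.stalkMap z).hom
    haveI : Algebra.EssFiniteType (X.presheaf.stalk (g z)) (X.presheaf.stalk z) := by
      rw [← RingHom.essFiniteType_algebraMap, RingHom.algebraMap_toAlgebra]
      exact LocallyOfFiniteType.stalkMap g z
    exact ncard_le (radicial_stalk f g z hz)
  haveI := finite_closedPoints f (Nat.card (X.residueField x))
  letI := Fintype.ofFinite (Pts X (Nat.card (X.residueField x)))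
  obtain ⟨σ, hσ⟩ := exists_perm f g g.injective (fun z hz => residueFieldMap_bijective f g z hz)
    (Nat.card (X.residueField x))
  have hle : ∀ z ∈ Finset.univ, (fun z : Pts X _ => N z.1) z ≤ N (σ z).1 := fun z _ => by
    rw [hσ z]
    exact hN z.1 z.2.1
  have heq := (Finset.sum_eq_sum_iff_of_le hle).mp
    (Equiv.sum_comp σ fun z => N z.1).symm ⟨x, hx, rfl⟩ (Finset.mem_univ _)
  simp only at heq
  rw [hσ] at heq
  letI := (g.stalkMap x).hom.toAlgebra
  haveI : IsLocalHom (algebraMap (X.presheaf.stalk (g x)) (X.presheaf.stalk x)) :=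
    inferInstanceAs <| IsLocalHom (g.stalkMap x).hom
  haveI : Algebra.EssFiniteType (X.presheaf.stalk (g x)) (X.presheaf.stalk x) := by
    rw [← RingHom.essFiniteType_algebraMap, RingHom.algebraMap_toAlgebra]
    exact LocallyOfFiniteType.stalkMap g x
  have hs := comap_surjective (radicial_stalk f g x hx) heq.ge
  obtain ⟨r, rfl⟩ : η ∈ Set.range (X.fromSpecStalk (g x)) := by
    rw [Scheme.range_fromSpecStalk]
    exact hη
  obtain ⟨p, hp⟩ := hs r
  refine ⟨X.fromSpecStalk x p, ?_, ?_⟩
  · have : X.fromSpecStalk x p ∈ Set.range (X.fromSpecStalk x) := ⟨_, rfl⟩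
    rw [Scheme.range_fromSpecStalk] at this
    exact this
  · rw [← hp, ← Scheme.Hom.comp_apply, ← Scheme.SpecMap_stalkMap_fromSpecStalk, Scheme.Hom.comp_apply]
    rfl

include f in
/-- A radicial endomorphism is a closed map. -/
theorem isClosedMap : IsClosedMap g := by
  haveI := jacobsonSpace f
  haveI := isLocallyNoetherian f
  haveI : CompactSpace X := QuasiCompact.compactSpace_of_compactSpace f
  haveI : IsNoetherian X := {}
  rw [isClosedMap_iff_specializingMap]
  intro z y hzy
  obtain ⟨x, rfl⟩ := (bijective f g).2 y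
  refine ⟨x, ?_, rfl⟩
  show z ⤳ x
  rw [specializes_iff_mem_closure]
  by_contra hxz
  have hc : Topology.IsConstructible (g '' (closure ({z} : Set X))ᶜ) :=
    g.isConstructible_image (IsRetrocompact.isConstructible isClosed_closure.isOpen_compl
      fun _ _ _ => TopologicalSpace.NoetherianSpace.isCompact _)
  obtain ⟨Z, hZ, hyZ, hZs⟩ := (exists_isLocallyClosed hc).1 (g x) ⟨x, hxz, rfl⟩
  obtain ⟨y₀, hy₀, hy₀c⟩ := nonempty_inter_closedPoints
    (Z := Z ∩ closure ({g x} : Set X)) ⟨g x, hyZ, subset_closure rfl⟩
    (hZ.inter isClosed_closure.isLocallyClosed)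
  obtain ⟨x₀, hx₀, hgx₀⟩ := exists_closed_preimage f g g.injective
    (fun z hz => residueFieldMap_bijective f g z hz) y₀ hy₀c
  obtain ⟨w, hw, hgw⟩ := exists_generalization f g x₀ hx₀ (g z)
    (hgx₀ ▸ hzy.trans (specializes_iff_mem_closure.mpr hy₀.2))
  obtain rfl := g.injective hgw
  obtain ⟨x₁, hx₁, hgx₁⟩ := hZs hy₀.1
  obtain rfl := g.injective (hgx₁.trans hgx₀.symm)
  exact hx₁ (specializes_iff_mem_closure.mp hw)

end Groth.Agent.Lib.EndoIso

namespace Groth.Agent.Lib.EndoIso

set_option linter.style.haveILetI false

variable {X : Scheme.{u}} (f : X ⟶ Spec (CommRingCat.of (ULift.{u} ℤ)))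
  [LocallyOfFiniteType f] [QuasiCompact f] (g : X ⟶ X) [LocallyOfFiniteType g] [QuasiCompact g]
  [LocallyOfFinitePresentation g] [UniversallyInjective g]

include f in
/-- A radicial endomorphism of a scheme of finite type over `ℤ` is finite. -/
theorem isFinite : IsFinite g := by
  haveI : UniversallyClosed g := Lim.AffineSpaceClosed.universallyClosed_of_affineSpace g fun n => by
    have sq := (AffineSpace.isPullback_map (n := ULift.{u} (Fin n)) g).flip
    haveI : IsAffineHom (𝔸(ULift.{u} (Fin n); X) ↘ X) := inferInstance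
    haveI : LocallyOfFiniteType (AffineSpace.map (ULift.{u} (Fin n)) g) :=
      MorphismProperty.of_isPullback (P := @LocallyOfFiniteType) sq ‹_›
    haveI : QuasiCompact (AffineSpace.map (ULift.{u} (Fin n)) g) :=
      MorphismProperty.of_isPullback (P := @QuasiCompact) sq ‹_›
    haveI : LocallyOfFinitePresentation (AffineSpace.map (ULift.{u} (Fin n)) g) :=
      MorphismProperty.of_isPullback (P := @LocallyOfFinitePresentation) sq ‹_›
    haveI : UniversallyInjective (AffineSpace.map (ULift.{u} (Fin n)) g) :=
      MorphismProperty.of_isPullback (P := @UniversallyInjective) sq ‹_›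
    have h := isClosedMap ((𝔸(ULift.{u} (Fin n); X) ↘ X) ≫ f) (AffineSpace.map (ULift.{u} (Fin n)) g)
    rw [← sq.isoPullback_hom_snd, Scheme.Hom.comp_base, TopCat.coe_comp] at h
    intro C hC
    have hC' := h _ (hC.preimage sq.isoPullback.hom.continuous)
    rwa [Set.image_comp, Set.image_preimage_eq] at hC'
    exact sq.isoPullback.hom.surjective
  haveI : Surjective (pullback.diagonal g) := (UniversallyInjective.iff_diagonal g).mp ‹_›
  haveI : IsClosedImmersion (pullback.diagonal g) :=
    IsClosedImmersion.of_isPreimmersion _ (by rw [Set.range_eq_univ.mpr (pullback.diagonal g).surjective]; exact isClosed_univ)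
  haveI : IsSeparated g := ⟨inferInstance⟩
  haveI : IsProper g := { }
  haveI : LocallyQuasiFinite g := LocallyQuasiFinite.of_injective g.injective
  exact IsFinite.of_isProper_of_locallyQuasiFinite g

/-- **A radicial endomorphism of a scheme of finite presentation is finite and bijective.** -/
theorem isFinite_and_bijective {X S : Scheme.{u}} (p : X ⟶ S) [LocallyOfFinitePresentation p]
    [QuasiCompact p] [QuasiSeparated p] (g : X ⟶ X) (hg : g ≫ p = p) [UniversallyInjective g] :
    Function.Bijective g ∧ IsFinite g := by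
  have key : (@IsFinite ⊓ @Surjective : MorphismProperty Scheme.{u}) g := by
    refine of_isAffine_base (P := @UniversallyInjective) ?_ p g hg ‹_›
    intro Y T _ q _ _ _ k hk hu
    obtain ⟨X₀, h₀, g₀, r, _, _, _, _, _, hu₀, sq⟩ :=
      exists_model (P := @UniversallyInjective) H47.LimDescend.universallyInjective_descends q k hk hu
    haveI : UniversallyInjective g₀ := hu₀
    exact ⟨MorphismProperty.of_isPullback (P := @IsFinite) sq (isFinite h₀ g₀),
      MorphismProperty.of_isPullback (P := @Surjective) sq ⟨(bijective h₀ g₀).2⟩⟩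
  exact ⟨⟨g.injective, key.2.surj⟩, key.1⟩

end Groth.Agent.Lib.EndoIso
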